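import Mathlib
import Groth.Agent.CMRel.Algebra
import Groth.Agent.RelDim.Open
import Groth.Agent.FlatEquidim.Locus
import Groth.Agent.TopDimLib.Basic
import Groth.Agent.DimTheory.Algebra
import Groth.Prelude.Def_CAlg

/-!
# The fibre dimension of a flat map with Cohen–Macaulay fibres is locally constant
-/

set_option autoImplicit false

universe u

open TensorProduct

namespace Groth.Agent.FibreDimConst

variable {R S : Type u} [CommRing R] [CommRing S] [Algebra R S]

theorem localDim_mono {X : Type u} [TopologicalSpace X] {x y : X} (h : x ⤳ y) :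
    FlatMor.localDim X x ≤ FlatMor.localDim X y :=
  le_iInf fun U => iInf_le_of_le ⟨U.1, h.mem_open U.1.2 U.2⟩ le_rfl

/-- the local dimension at a minimal prime is the dimension of its component -/
theorem localDim_minimal (k F : Type u) [Field k] [CommRing F] [Algebra k F] [Algebra.FiniteType k F]
    (P : PrimeSpectrum F) (hP : P.asIdeal ∈ minimalPrimes F) :
    FlatMor.localDim (PrimeSpectrum F) P = ringKrullDim (F ⧸ P.asIdeal) := by
  rw [CMLocus.localDim_eq k F P, IsLocalization.AtPrime.ringKrullDim_eq_height P.asIdeal,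
    Ideal.height_eq_zero_iff.2 hP]
  exact zero_add _

open Algebra.TensorProduct in
theorem quot_fibre_eq_trdeg [Algebra.FiniteType R S] {n : ℕ} {T : Type u} [CommRing T] [Algebra R T]
    [Algebra S T] [IsScalarTower R S T] [Algebra (MvPolynomial (Fin n) R) T]
    [IsScalarTower R (MvPolynomial (Fin n) R) T] [Algebra.QuasiFinite (MvPolynomial (Fin n) R) T]
    (g : S) [IsLocalization.Away g T]
    (p : Ideal R) [p.IsPrime] (Q : PrimeSpectrum (p.Fiber S)) (hQ : Q.asIdeal ∈ minimalPrimes (p.Fiber S))
    (z : Ideal T) [z.IsPrime] (hz : z.under S = Q.asIdeal.comap (includeRight : S →ₐ[R] p.Fiber S).toRingHom)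
    (hflat : Module.Flat (MvPolynomial (Fin n) R) (LocalizedModule z.primeCompl T)) :
    ringKrullDim (p.Fiber S ⧸ Q.asIdeal) = n := by
  let F := p.Fiber S
  let K := p.ResidueField
  let L := Q.asIdeal.ResidueField
  let ι : S →+* L := (algebraMap F L).comp (includeRight : S →ₐ[R] F).toRingHom
  have hkerι : ∀ s, ι s = 0 ↔ s ∈ z.under S := fun s => by
    rw [hz, Ideal.mem_comap]
    exact Ideal.algebraMap_residueField_eq_zero
  have hgz : g ∉ z.under S := fun h => Ideal.IsPrime.ne_top (I := z) ‹_›
    (Ideal.eq_top_of_isUnit_mem _ h (IsLocalization.Away.algebraMap_isUnit g))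
  let τ : T →+* L := IsLocalization.Away.lift g (g := ι) (Ne.isUnit fun h => hgz ((hkerι g).1 h))
  have hτ : ∀ s, τ (algebraMap S T s) = ι s := fun s => IsLocalization.Away.lift_eq g _ s
  letI : Algebra T L := τ.toAlgebra
  letI : Algebra K L := IsLocalRing.ResidueField.algebra (R := Localization.AtPrime Q.asIdeal) (R₀ := K)
  letI : Algebra R L := ((algebraMap K L).comp (algebraMap R K)).toAlgebra
  have hfib : ∀ (w : PrimeSpectrum F),
      (w.asIdeal.comap (includeRight : S →ₐ[R] F).toRingHom).comap (algebraMap R S) = p := fun w =>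
    congrArg PrimeSpectrum.asIdeal ((PrimeSpectrum.preimageOrderIsoFiber R S ⟨p, inferInstance⟩).symm w).2
  have hzR : z.comap (algebraMap R T) = p := by
    rw [IsScalarTower.algebraMap_eq R S T, ← Ideal.comap_comap]
    exact (congrArg (Ideal.comap (algebraMap R S)) hz).trans (hfib Q)
  -- `z` is minimal in its fibre
  have hmin : ∀ W : Ideal T, W.IsPrime → W ≤ z → W.comap (algebraMap R T) = z.comap (algebraMap R T) → W = z := by
    intro W hW hle hWR
    let w : PrimeSpectrum S := ⟨W.under S, inferInstance⟩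
    have hwR : PrimeSpectrum.comap (algebraMap R S) w = ⟨p, inferInstance⟩ := by
      refine PrimeSpectrum.ext ?_
      show (W.comap (algebraMap S T)).comap (algebraMap R S) = p
      rw [Ideal.comap_comap, ← IsScalarTower.algebraMap_eq, hWR, hzR]
    let e := PrimeSpectrum.preimageOrderIsoFiber R S ⟨p, inferInstance⟩
    have hle' : e ⟨w, hwR⟩ ≤ Q := by
      rw [← e.apply_symm_apply Q, e.le_iff_le]
      show W.under S ≤ Q.asIdeal.comap (includeRight : S →ₐ[R] F).toRingHom
      rw [← hz]
      exact Ideal.comap_mono hle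
    have heq : e ⟨w, hwR⟩ = Q :=
      le_antisymm hle' (hQ.2 ⟨(e ⟨w, hwR⟩).2, bot_le⟩ hle')
    have h1 : W.under S = z.under S := by
      rw [hz, ← heq]
      exact (congrArg (fun x => x.1.asIdeal) (e.symm_apply_apply ⟨w, hwR⟩)).symm
    have h2 := congrArg (Ideal.map (algebraMap S T)) h1
    rwa [IsLocalization.map_under (Submonoid.powers g) T W, IsLocalization.map_under (Submonoid.powers g) T z] at h2
  have hcz := FlatEquidim.comap_eq_of_minimal (S := T) (d := n) z hmin
  have htr : Algebra.trdeg K L = n := by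
    refine FlatEquidim.trdeg_eq (S := T) (d := n) z hcz (fun r => ?_) (fun x => ?_) ?_ (fun y => ?_)
    · show τ (algebraMap R T r) = algebraMap K L (algebraMap R K r)
      rw [IsScalarTower.algebraMap_apply R S T, hτ]
      show algebraMap F L ((includeRight : S →ₐ[R] F) (algebraMap R S r)) = _
      rw [AlgHom.commutes, IsScalarTower.algebraMap_apply R K F, ← IsScalarTower.algebraMap_apply K F L]
    · obtain ⟨a, b, -, rfl⟩ := IsFractionRing.div_surjective (A := R ⧸ p) x
      obtain ⟨a, rfl⟩ := Ideal.Quotient.mk_surjective a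
      obtain ⟨b, rfl⟩ := Ideal.Quotient.mk_surjective b
      exact ⟨a, b, rfl⟩
    · ext t
      obtain ⟨s, ⟨_, k, rfl⟩, rfl⟩ := IsLocalization.exists_mk'_eq (Submonoid.powers g) t
      let gk : Submonoid.powers g := ⟨g ^ k, ⟨k, rfl⟩⟩
      change IsLocalization.mk' T s gk ∈ RingHom.ker τ ↔ IsLocalization.mk' T s gk ∈ z
      have hu : IsUnit (τ (algebraMap S T (g ^ k))) := by
        rw [hτ, map_pow]
        exact (Ne.isUnit fun h => hgz ((hkerι g).1 h)).pow k
      have hu' : IsUnit (algebraMap S T (g ^ k)) :=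
        IsLocalization.map_units T gk
      rw [RingHom.mem_ker]
      show τ _ = 0 ↔ _
      rw [← hu.mul_left_eq_zero, ← map_mul, IsLocalization.mk'_spec, hτ, hkerι, Ideal.under_def,
        Ideal.mem_comap, ← IsLocalization.mk'_spec T s gk, Ideal.mul_unit_mem_iff_mem _ hu']
    · obtain ⟨a, b, -, rfl⟩ := IsFractionRing.div_surjective (A := F ⧸ Q.asIdeal) y
      obtain ⟨a, rfl⟩ := Ideal.Quotient.mk_surjective a
      obtain ⟨b, rfl⟩ := Ideal.Quotient.mk_surjective b
      obtain ⟨r, hr, s, hs⟩ := Ideal.Fiber.exists_smul_eq_one_tmul _ a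
      obtain ⟨r', hr', s', hs'⟩ := Ideal.Fiber.exists_smul_eq_one_tmul _ b
      have key : ∀ (x : F) (r : R) (s : S), r ∉ p → r • x = 1 ⊗ₜ s →
          algebraMap F L x = ι s / ι (algebraMap R S r) := by
        intro x r s hr hs
        have h1 : ι s = ι (algebraMap R S r) * algebraMap F L x := by
          show algebraMap F L ((1 : K) ⊗ₜ[R] s) = algebraMap F L ((includeRight : S →ₐ[R] F) (algebraMap R S r)) * _
          rw [← hs, AlgHom.commutes, ← map_mul, Algebra.smul_def]
        have hne : ι (algebraMap R S r) ≠ 0 := fun h => hr (by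
          have := (hkerι _).1 h
          rw [hz] at this
          exact (hfib Q).le this)
        rw [h1, mul_div_cancel_left₀ _ hne]
      refine ⟨algebraMap S T (s * algebraMap R S r'), algebraMap S T (s' * algebraMap R S r), ?_⟩
      show algebraMap F L a / algebraMap F L b = τ _ / τ _
      rw [hτ, hτ, key a r s hr hs, key b r' s' hr' hs', div_div_div_eq, map_mul, map_mul,
        mul_comm (ι (algebraMap R S r))]
  obtain ⟨m, hm, hmd⟩ := CMLocus.exists_trdeg_residue K F Q.asIdeal
  rw [hmd]
  have : (m : Cardinal) = n := hm.symm.trans htr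
  rw [Nat.cast_inj.1 this]

open Algebra.TensorProduct in
/-- Near every point the fibres have constant local dimension. -/
theorem exists_nhd [Module.Flat R S] [Algebra.FinitePresentation R S]
    (hCM : ∀ p : PrimeSpectrum R, LocCoh.IsCohenMacaulayRing (p.asIdeal.Fiber S)) (q : PrimeSpectrum S) :
    ∃ (g : S) (n : ℕ), g ∉ q.asIdeal ∧ ∀ (p : Ideal R) [p.IsPrime] (Q : PrimeSpectrum (p.Fiber S)),
      g ∉ Q.asIdeal.comap (includeRight : S →ₐ[R] p.Fiber S).toRingHom →
      FlatMor.localDim (PrimeSpectrum (p.Fiber S)) Q = (n : WithBot ℕ∞) := by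
  obtain ⟨Q₀, hQ₀⟩ := RelDim.exists_fibre_point R S q
  have : Module.Flat R (Localization.AtPrime q.asIdeal) := Module.Flat.trans R S _
  obtain ⟨n, -, g, hg, φ, hqf, hflat⟩ := CMRel.exists_quasiFinite_flat q.asIdeal (q.asIdeal.under R) Q₀ hQ₀
    ((hCM ⟨q.asIdeal.under R, inferInstance⟩).isCohenMacaulayLocalRing_localization Q₀.asIdeal)
  let T := Localization.Away g
  let P := MvPolynomial (Fin n) R
  letI : Algebra P T := φ.toRingHom.toAlgebra
  have : IsScalarTower R P T := IsScalarTower.of_algHom φ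
  have : Algebra.QuasiFinite P T := hqf
  have : Algebra.FinitePresentation S T := IsLocalization.Away.finitePresentation g
  have : Algebra.FinitePresentation R T := Algebra.FinitePresentation.trans R S T
  have : Algebra.FinitePresentation P T := Algebra.FinitePresentation.of_restrict_scalars_finitePresentation R P T
  let c : PrimeSpectrum T → PrimeSpectrum S := PrimeSpectrum.comap (algebraMap S T)
  have hc : Topology.IsOpenEmbedding c := PrimeSpectrum.localization_away_isOpenEmbedding T g
  let U := {z : PrimeSpectrum T | Module.Flat P (LocalizedModule z.asIdeal.primeCompl T)}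
  have hU : IsOpen U := FlatLocus.isOpen_flatLocus
  obtain ⟨q', hq'⟩ : q ∈ Set.range c := by
    rw [PrimeSpectrum.localization_away_comap_range T g]
    exact hg
  have hq'U : q' ∈ U := by
    have h := hflat q'.asIdeal (congrArg PrimeSpectrum.asIdeal hq')
    show Module.Flat P (Localization.AtPrime q'.asIdeal)
    rw [← RingHom.flat_algebraMap_iff, IsScalarTower.algebraMap_eq P T (Localization.AtPrime q'.asIdeal)]
    exact h
  obtain ⟨_, ⟨g', rfl⟩, hqg', hsub⟩ := PrimeSpectrum.isTopologicalBasis_basic_opens.exists_subset_of_mem_open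
    (show q ∈ c '' U from ⟨q', hq'U, hq'⟩) (hc.isOpenMap U hU)
  refine ⟨g', n, hqg', fun p _ Q hQ => ?_⟩
  obtain ⟨z, hzU, hz⟩ := hsub (show PrimeSpectrum.comap (includeRight : S →ₐ[R] p.Fiber S).toRingHom Q ∈ PrimeSpectrum.basicOpen g' from hQ)
  have hzQ : z.asIdeal.under S = Q.asIdeal.comap (includeRight : S →ₐ[R] p.Fiber S).toRingHom :=
    congrArg PrimeSpectrum.asIdeal hz
  have hgQ : g ∉ Q.asIdeal.comap (includeRight : S →ₐ[R] p.Fiber S).toRingHom := by
    rw [← hzQ]
    exact fun h => z.isPrime.ne_top (Ideal.eq_top_of_isUnit_mem _ h (IsLocalization.Away.algebraMap_isUnit g))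
  refine le_antisymm (RelDim.localDim_le p g φ hqf Q hgQ) ?_
  obtain ⟨Q₁, hQ₁, hle⟩ := Ideal.exists_minimalPrimes_le (I := (⊥ : Ideal (p.Fiber S))) (J := Q.asIdeal) bot_le
  haveI := hQ₁.1.1
  let Q₁' : PrimeSpectrum (p.Fiber S) := ⟨Q₁, inferInstance⟩
  refine le_trans ?_ (localDim_mono (x := Q₁') ((PrimeSpectrum.le_iff_specializes _ _).1 hle))
  have : Algebra.FiniteType p.ResidueField (p.Fiber S) := inferInstance
  rw [localDim_minimal p.ResidueField _ Q₁' hQ₁]
  have hq1 : Q₁.comap (includeRight : S →ₐ[R] p.Fiber S).toRingHom ≤ z.asIdeal.under S := by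
    rw [hzQ]
    exact Ideal.comap_mono hle
  have hd : Disjoint (Submonoid.powers g : Set S) (Q₁.comap (includeRight : S →ₐ[R] p.Fiber S).toRingHom : Set S) :=
    (Ideal.disjoint_powers_iff_notMem_of_isPrime _).mpr fun h => hgQ (Ideal.comap_mono hle h)
  let z₁ := (Q₁.comap (includeRight : S →ₐ[R] p.Fiber S).toRingHom).map (algebraMap S T)
  have : z₁.IsPrime := IsLocalization.isPrime_of_isPrime_disjoint (.powers g) T _ inferInstance hd
  have hz₁ : z₁.under S = Q₁.comap (includeRight : S →ₐ[R] p.Fiber S).toRingHom :=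
    IsLocalization.under_map_of_isPrime_disjoint (.powers g) T inferInstance hd
  have hz₁le : z₁ ≤ z.asIdeal := Ideal.map_le_iff_le_comap.2 hq1
  have hz₁U : (⟨z₁, inferInstance⟩ : PrimeSpectrum T) ∈ U :=
    ((PrimeSpectrum.le_iff_specializes ⟨z₁, inferInstance⟩ z).1 hz₁le).mem_open hU hzU
  exact (quot_fibre_eq_trdeg (R := R) (S := S) g p Q₁' hQ₁ z₁ hz₁ hz₁U).ge

end Groth.Agent.FibreDimConst
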